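import Mathlib

/-!
# Morphisms from the spectrum of a directed union of subalgebras of a domain
-/

noncomputable section

universe u v

open AlgebraicGeometry CategoryTheory Limits

namespace Groth.Agent.SubalgLim

/-- Two morphisms on `Spec B` over `Y` that agree on `Spec D` agree on some `Spec (Bj j)`. -/
theorem equalize {X Y : Scheme.{u}} (f : X ⟶ Y) {B D : CommRingCat.{u}} (κ : B ⟶ D)
    (a b : Spec B ⟶ X) (hab : a ≫ f = b ≫ f) (hD : Spec.map κ ≫ a = Spec.map κ ≫ b)
    {J : Type v} (Bj : J → CommRingCat.{u}) (τ : ∀ j, B ⟶ Bj j) (ε : ∀ j, Bj j ⟶ D)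
    (fac : ∀ j, τ j ≫ ε j = κ) (inj : ∀ j, Function.Injective (ε j).hom)
    (hfin : ∀ s : Finset D, ∃ j, ∀ x ∈ s, x ∈ Set.range (ε j).hom) :
    ∃ j, Spec.map (τ j) ≫ a = Spec.map (τ j) ≫ b := by
  classical
  let d := pullback.lift a b hab
  let k : pullback (pullback.diagonal f) d ⟶ Spec B := pullback.snd _ _
  let q : pullback (pullback.diagonal f) d ⟶ X := pullback.fst _ _
  haveI : IsImmersion k := MorphismProperty.pullback_snd _ _ inferInstance
  have hk : k ≫ a = q ∧ k ≫ b = q := by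
    constructor
    · have := congr($(pullback.condition (f := pullback.diagonal f) (g := d)) ≫ pullback.fst f f)
      simp only [Category.assoc, pullback.diagonal_fst, Category.comp_id, d] at this
      erw [pullback.lift_fst] at this
      exact this.symm
    · have := congr($(pullback.condition (f := pullback.diagonal f) (g := d)) ≫ pullback.snd f f)
      simp only [Category.assoc, pullback.diagonal_snd, Category.comp_id, d] at this
      erw [pullback.lift_snd] at this
      exact this.symm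
  let l : Spec D ⟶ pullback (pullback.diagonal f) d :=
    pullback.lift (Spec.map κ ≫ a) (Spec.map κ) (by
      refine pullback.hom_ext ?_ ?_
      · simp only [Category.assoc, pullback.diagonal_fst, Category.comp_id, d]
        erw [pullback.lift_fst]
      · simp only [Category.assoc, pullback.diagonal_snd, Category.comp_id, d]
        erw [pullback.lift_snd]
        exact hD)
  have hl : l ≫ k = Spec.map κ := pullback.lift_snd _ _ _
  let W := k.coborderRange
  obtain ⟨I, hI⟩ := (PrimeSpectrum.isClosed_iff_zeroLocus_ideal _).1 W.isOpen.isClosed_compl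
  have hlW : ∀ x : PrimeSpectrum D, PrimeSpectrum.comap κ.hom x ∈ (W : Set (Spec B)) := fun x => by
    have h1 : (Spec.map κ).base x = k.base (l.base x) := by rw [← hl]; rfl
    have h2 : k.base (l.base x) = W.ι.base (k.liftCoborder.base (l.base x)) := by
      conv_lhs => rw [← k.liftCoborder_ι]
      rfl
    change (Spec.map κ).base x ∈ _
    rw [h1, h2]
    exact (k.liftCoborder.base (l.base x)).2
  have htop : I.map κ.hom = ⊤ := by
    rw [← PrimeSpectrum.zeroLocus_empty_iff_eq_top]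
    refine Set.eq_empty_iff_forall_notMem.2 fun x hx => ?_
    have : PrimeSpectrum.comap κ.hom x ∈ PrimeSpectrum.zeroLocus (I : Set B) := by
      intro y hy
      exact hx (Ideal.mem_map_of_mem _ hy)
    rw [← hI] at this
    exact this (hlW x)
  obtain ⟨T, hT, h1⟩ := Submodule.mem_span_finite_of_mem_span
    (show (1 : D) ∈ Submodule.span D (κ.hom '' (I : Set B)) from (Ideal.eq_top_iff_one _).1 htop)
  obtain ⟨e, -, he⟩ := Submodule.mem_span_finset.1 h1
  obtain ⟨j, hj⟩ := hfin (T.image e)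
  have hIj : I.map (τ j).hom = ⊤ := by
    have hx : ∀ x : T, ∃ y ∈ I.map (τ j).hom, (ε j).hom y = e x * x := fun ⟨x, hx⟩ => by
      obtain ⟨y, hy⟩ := hj (e x) (Finset.mem_image_of_mem e hx)
      obtain ⟨i, hi, rfl⟩ := hT hx
      refine ⟨y * (τ j).hom i, Ideal.mul_mem_left _ _ (Ideal.mem_map_of_mem _ hi), ?_⟩
      have hf : (ε j).hom ((τ j).hom i) = κ.hom i := by rw [← fac j]; rfl
      rw [map_mul, hy, hf]
    choose y hy hy' using hx
    have h : (ε j).hom (∑ x : T, y x) = 1 := by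
      rw [map_sum, Finset.sum_congr rfl fun x _ => hy' x, ← he, Finset.sum_coe_sort T (fun x => e x * x)]
      simp only [smul_eq_mul]
    rw [← map_one (ε j).hom] at h
    exact (Ideal.eq_top_iff_one _).2 (inj j h ▸ Ideal.sum_mem _ fun x _ => hy x)
  refine ⟨j, ?_⟩
  have hW : Set.range (Spec.map (τ j)).base ⊆ Set.range W.ι.base := by
    rintro _ ⟨x, rfl⟩
    rw [Scheme.Opens.range_ι]
    by_contra hx
    have hx' : (Spec.map (τ j)).base x ∈ PrimeSpectrum.zeroLocus (I : Set B) := hI ▸ hx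
    have : I.map (τ j).hom ≤ x.asIdeal := Ideal.map_le_iff_le_comap.2 hx'
    exact x.2.ne_top (top_le_iff.1 (hIj ▸ this))
  let u : Spec (Bj j) ⟶ W := IsOpenImmersion.lift W.ι (Spec.map (τ j)) hW
  have hu : u ≫ W.ι = Spec.map (τ j) := IsOpenImmersion.lift_fac _ _ _
  let c : pullback k.liftCoborder u ⟶ Spec (Bj j) := pullback.snd _ _
  haveI : IsClosedImmersion c := MorphismProperty.pullback_snd _ _ inferInstance
  haveI : IsAffine (pullback k.liftCoborder u) := isAffine_of_isAffineHom c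
  let m : Spec D ⟶ pullback k.liftCoborder u := pullback.lift l (Spec.map (ε j)) (by
    rw [← cancel_mono W.ι, Category.assoc, Category.assoc, k.liftCoborder_ι, hu, hl, ← Spec.map_comp,
      fac])
  have hm : m ≫ c = Spec.map (ε j) := pullback.lift_snd _ _ _
  haveI : IsIso c.appTop := by
    refine (ConcreteCategory.isIso_iff_bijective _).2 ⟨fun x y hxy => ?_, ?_⟩
    · have h := congr(m.appTop $hxy)
      have hinj : Function.Injective (Spec.map (ε j)).appTop := by
        have he : (Spec.map (ε j)).appTop = (Scheme.ΓSpecIso (Bj j)).hom ≫ ε j ≫ (Scheme.ΓSpecIso D).inv := by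
          rw [← Scheme.ΓSpecIso_naturality_assoc, Iso.hom_inv_id, Category.comp_id]
        rw [he]
        intro x y h
        exact (ConcreteCategory.bijective_of_isIso (Scheme.ΓSpecIso (Bj j)).hom).1
          (inj j ((ConcreteCategory.bijective_of_isIso (Scheme.ΓSpecIso D).inv).1 h))
      apply hinj
      rw [← hm, Scheme.Hom.comp_appTop]
      exact h
    · exact (IsClosedImmersion.isAffine_surjective_of_isAffine c).2
  haveI : IsIso c := by
    have hnat : c = (pullback k.liftCoborder u).isoSpec.hom ≫ Spec.map c.appTop ≫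
        (Spec (Bj j)).isoSpec.inv := by
      rw [Scheme.isoSpec_hom_naturality_assoc, Iso.hom_inv_id, Category.comp_id]
    rw [hnat]
    infer_instance
  have hc : pullback.fst k.liftCoborder u ≫ k = c ≫ Spec.map (τ j) := by
    rw [← hu, ← pullback.condition_assoc]
    exact congr(pullback.fst k.liftCoborder u ≫ $(k.liftCoborder_ι.symm))
  have ha : inv c ≫ pullback.fst k.liftCoborder u ≫ k = Spec.map (τ j) := by
    rw [hc, IsIso.inv_hom_id_assoc]
  rw [← ha]
  simp only [Category.assoc, hk.1, hk.2]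

variable {A C : Type u} [CommRing A] [CommRing C] [Algebra A C]

/-- The map of localizations induced by a subalgebra. -/
def L (R : Subalgebra A C) {r : C} (hr : r ∈ R) :
    CommRingCat.of (Localization.Away (⟨r, hr⟩ : R)) ⟶ CommRingCat.of (Localization.Away r) :=
  CommRingCat.ofHom (IsLocalization.map (M := Submonoid.powers (⟨r, hr⟩ : R))
    (T := Submonoid.powers r) (S := Localization.Away (⟨r, hr⟩ : R)) (Localization.Away r) R.val.toRingHom
    (Submonoid.powers_le.2 (Submonoid.mem_powers r)))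

/-- The transition map. -/
def T {R R' : Subalgebra A C} (h : R ≤ R') {r : C} (hr : r ∈ R) :
    CommRingCat.of (Localization.Away (⟨r, hr⟩ : R)) ⟶
      CommRingCat.of (Localization.Away (⟨r, h hr⟩ : R')) :=
  CommRingCat.ofHom (IsLocalization.map (M := Submonoid.powers (⟨r, hr⟩ : R))
    (T := Submonoid.powers (⟨r, h hr⟩ : R')) (S := Localization.Away (⟨r, hr⟩ : R))
    (Localization.Away (⟨r, h hr⟩ : R')) (Subalgebra.inclusion h).toRingHom
    (Submonoid.powers_le.2 (Submonoid.mem_powers _)))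

/-- The localization map. -/
abbrev loc {R : Type u} [CommRing R] (r : R) :
    CommRingCat.of R ⟶ CommRingCat.of (Localization.Away r) :=
  CommRingCat.ofHom (algebraMap R (Localization.Away r))

/-- The inclusion. -/
abbrev incl {R R' : Subalgebra A C} (h : R ≤ R') : CommRingCat.of R ⟶ CommRingCat.of R' :=
  CommRingCat.ofHom (Subalgebra.inclusion h).toRingHom

theorem hom_ext_away {R : Type u} [CommRing R] {r : R} {Q : CommRingCat.{u}}
    {p q : CommRingCat.of (Localization.Away r) ⟶ Q} (h : loc r ≫ p = loc r ≫ q) : p = q :=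
  CommRingCat.hom_ext (IsLocalization.ringHom_ext (Submonoid.powers r) congr($(h).hom))

theorem loc_L (R : Subalgebra A C) {r : C} (hr : r ∈ R) :
    loc (⟨r, hr⟩ : R) ≫ L R hr = CommRingCat.ofHom R.val.toRingHom ≫ loc r := by
  ext x
  simp [L, loc, IsLocalization.map_eq]

theorem loc_T {R R' : Subalgebra A C} (h : R ≤ R') {r : C} (hr : r ∈ R) :
    loc (⟨r, hr⟩ : R) ≫ T h hr = incl h ≫ loc (⟨r, h hr⟩ : R') := by
  ext x
  simp [T, loc, incl, IsLocalization.map_eq]

theorem T_L {R R' : Subalgebra A C} (h : R ≤ R') {r : C} (hr : r ∈ R) :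
    T h hr ≫ L R' (h hr) = L R hr := by
  refine hom_ext_away ?_
  rw [← Category.assoc, loc_T, Category.assoc, loc_L, loc_L, ← Category.assoc]
  rfl

theorem L_injective (R : Subalgebra A C) {r : C} (hr : r ∈ R) :
    Function.Injective (L R hr).hom :=
  have : IsLocalization ((Submonoid.powers (⟨r, hr⟩ : R)).map R.val.toRingHom) (Localization.Away r) := by
    rw [Submonoid.map_powers]
    exact inferInstanceAs (IsLocalization.Away r _)
  IsLocalization.map_injective_of_injective _ _ _ (g := R.val.toRingHom) Subtype.val_injective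

/-- The map of localizations along a divisibility. -/
def U {R : Type u} [CommRing R] {r s : R} (h : r ∣ s) :
    CommRingCat.of (Localization.Away r) ⟶ CommRingCat.of (Localization.Away s) :=
  CommRingCat.ofHom (IsLocalization.Away.lift r (g := algebraMap R (Localization.Away s))
    (isUnit_of_dvd_unit (map_dvd _ h) (IsLocalization.Away.algebraMap_isUnit s)))

theorem loc_U {R : Type u} [CommRing R] {r s : R} (h : r ∣ s) : loc r ≫ U h = loc s := by
  ext x
  simp [U, loc]

theorem isPullback_U {R : Type u} [CommRing R] (r s : R) :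
    IsPullback (Spec.map (U (dvd_mul_left s r))) (Spec.map (U (dvd_mul_right r s)))
      (Spec.map (loc s)) (Spec.map (loc r)) := by
  have hcomp : ∀ {p : R} (h : p ∣ r * s), Spec.map (U h) ≫ Spec.map (loc p) = Spec.map (loc (r * s)) :=
    fun h => by rw [← Spec.map_comp, loc_U]
  haveI : ∀ p : R, IsOpenImmersion (Spec.map (loc p)) := fun p => IsOpenImmersion.of_isLocalization p
  haveI : IsOpenImmersion (Spec.map (U (dvd_mul_right r s))) := by
    haveI : IsOpenImmersion (Spec.map (U (dvd_mul_right r s)) ≫ Spec.map (loc r)) := by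
      rw [hcomp]; infer_instance
    exact IsOpenImmersion.of_comp _ (Spec.map (loc r))
  refine IsOpenImmersion.isPullback _ _ _ _ ((hcomp _).trans (hcomp _).symm) ?_
  have hrange : ∀ p : R, Set.range (Spec.map (loc p)).base = (PrimeSpectrum.basicOpen p : Set (PrimeSpectrum R)) :=
    fun p => PrimeSpectrum.localization_away_comap_range (Localization.Away p) p
  refine TopologicalSpace.Opens.ext ?_
  change (Spec.map (loc r)).base ⁻¹' Set.range (Spec.map (loc s)).base = Set.range (Spec.map (U _)).base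
  have hinj : Function.Injective (Spec.map (loc r)).base := (Spec.map (loc r)).isOpenEmbedding.injective
  have h : Set.range ⇑((Spec.map (U (dvd_mul_right r s)) ≫ Spec.map (loc r)).base) =
      Set.range ⇑((Spec.map (loc (r * s))).base) := by rw [hcomp]
  simp only [Scheme.Hom.comp_base, TopCat.coe_comp, Set.range_comp, hrange] at h
  rw [← hinj.preimage_image (Set.range (Spec.map (U (dvd_mul_right r s))).base), h, hrange,
    PrimeSpectrum.basicOpen_mul, TopologicalSpace.Opens.coe_inf]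
  exact Set.ext fun y => ⟨fun hy => ⟨(hrange r).subset ⟨y, rfl⟩, hy⟩, fun hy => hy.2⟩

variable {ι : Type u} (S : ι → Subalgebra A C)

theorem exists_le (hdir : Directed (· ≤ ·) S) (hcov : ∀ c : C, ∃ i, c ∈ S i) (i₀ : ι) (s : Finset C) :
    ∃ j, S i₀ ≤ S j ∧ ∀ c ∈ s, c ∈ S j := by
  classical
  choose i hi using hcov
  haveI : Nonempty ι := ⟨i₀⟩
  obtain ⟨j, hj⟩ := hdir.finset_le (insert i₀ (s.image i))
  exact ⟨j, hj _ (Finset.mem_insert_self _ _),
    fun c hc => hj _ (Finset.mem_insert_of_mem (Finset.mem_image_of_mem i hc)) (hi c)⟩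

theorem exists_range_L (hdir : Directed (· ≤ ·) S) (hcov : ∀ c : C, ∃ i, c ∈ S i) (i₀ : ι) {r : C}
    (hr : r ∈ S i₀) (s : Finset (Localization.Away r)) :
    ∃ j, ∃ h : S i₀ ≤ S j, ∀ x ∈ s, x ∈ Set.range (L (S j) (h hr)).hom := by
  classical
  have hx : ∀ x : Localization.Away r, ∃ (n : ℕ) (c : C), x * algebraMap C _ r ^ n = algebraMap C _ c :=
    IsLocalization.Away.surj r
  choose n c hc using hx
  obtain ⟨j, hj, hjc⟩ := exists_le S hdir hcov i₀ (s.image c)
  refine ⟨j, hj, fun x hx => ⟨IsLocalization.mk' _ (⟨c x, hjc _ (Finset.mem_image_of_mem c hx)⟩ : S j)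
    (⟨⟨r, hj hr⟩ ^ n x, n x, rfl⟩ : Submonoid.powers (⟨r, hj hr⟩ : S j)), ?_⟩⟩
  simp only [L, CommRingCat.hom_ofHom, IsLocalization.map_mk']
  rw [IsLocalization.mk'_eq_iff_eq_mul]
  simpa [map_pow] using (hc x).symm

variable {X : Scheme.{u}} (f : X ⟶ Spec (CommRingCat.of A))

theorem exists_local [LocallyOfFiniteType f] (hdir : Directed (· ≤ ·) S)
    (hcov : ∀ c : C, ∃ i, c ∈ S i) (g : Spec (CommRingCat.of C) ⟶ X)
    (hg : g ≫ f = Spec.map (CommRingCat.ofHom (algebraMap A C))) (i₀ : ι) {r : C} (hr : r ∈ S i₀)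
    (V : X.Opens) (hV : IsAffineOpen V)
    (hrV : Set.range (Spec.map (loc r) ≫ g).base ⊆ (V : Set X)) :
    ∃ j, ∃ h : S i₀ ≤ S j, ∃ a : Spec (CommRingCat.of (Localization.Away (⟨r, h hr⟩ : S j))) ⟶ X,
      a ≫ f = Spec.map (CommRingCat.ofHom (algebraMap A (S j)) ≫ loc (⟨r, h hr⟩ : S j)) ∧
      Spec.map (L (S j) (h hr)) ≫ a = Spec.map (loc r) ≫ g := by
  classical
  let h := IsOpenImmersion.lift hV.fromSpec (Spec.map (loc r) ≫ g) (by rwa [hV.range_fromSpec])
  have hh : h ≫ hV.fromSpec = Spec.map (loc r) ≫ g := IsOpenImmersion.lift_fac _ _ _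
  obtain ⟨φ, hφ⟩ := Spec.map_surjective (hV.fromSpec ≫ f)
  obtain ⟨ψ, hψ⟩ := Spec.map_surjective h
  have hfg : φ ≫ ψ = CommRingCat.ofHom (algebraMap A C) ≫ loc r := by
    apply Spec.map_injective
    rw [Spec.map_comp, Spec.map_comp, hφ, hψ, reassoc_of% hh, hg]
  haveI : LocallyOfFiniteType (Spec.map φ) := hφ ▸ inferInstance
  have hft : φ.hom.FiniteType := (HasRingHomProperty.Spec_iff (P := @LocallyOfFiniteType)).1 ‹_›
  algebraize [φ.hom]
  obtain ⟨G, hG⟩ := hft.1
  obtain ⟨j, hj, hjG⟩ := exists_range_L S hdir hcov i₀ hr (G.image ψ.hom)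
  have hA : ∀ a : A, ψ.hom (φ.hom a) =
      (L (S j) (hj hr)).hom (algebraMap (S j) _ (algebraMap A (S j) a)) := fun a => by
    have h1 := congr($(hfg).hom a)
    simp only [L, CommRingCat.hom_ofHom, IsLocalization.map_eq]
    exact h1
  have hmem : ∀ x, ψ.hom x ∈ (L (S j) (hj hr)).hom.range := fun x => by
    have hx : x ∈ Algebra.adjoin A (G : Set Γ(X, V)) := hG ▸ Algebra.mem_top
    induction hx using Algebra.adjoin_induction with
    | mem y hy => exact hjG _ (Finset.mem_image_of_mem _ hy)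
    | algebraMap a => exact ⟨_, (hA a).symm⟩
    | add y z _ _ hy hz => rw [map_add]; exact add_mem hy hz
    | mul y z _ _ hy hz => rw [map_mul]; exact mul_mem hy hz
  let Lh : Localization.Away (⟨r, hj hr⟩ : S j) →+* Localization.Away r := (L (S j) (hj hr)).hom
  let e := RingEquiv.ofBijective Lh.rangeRestrict
    ⟨fun x y hxy => L_injective (S j) (hj hr) (congrArg Subtype.val hxy),
      RingHom.rangeRestrict_surjective _⟩
  let ψ' : Γ(X, V) ⟶ CommRingCat.of (Localization.Away (⟨r, hj hr⟩ : S j)) :=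
    CommRingCat.ofHom (e.symm.toRingHom.comp (ψ.hom.codRestrict _ hmem))
  have hψ' : ψ' ≫ L (S j) (hj hr) = ψ := by
    ext x
    exact congr(($(e.apply_symm_apply ⟨ψ.hom x, hmem x⟩) : Localization.Away r))
  refine ⟨j, hj, Spec.map ψ' ≫ hV.fromSpec, ?_, ?_⟩
  · rw [Category.assoc, ← hφ, ← Spec.map_comp]
    congr 1
    ext a
    apply L_injective (S j) (hj hr)
    exact (congr($(hψ').hom (φ.hom a))).trans (hA a)
  · rw [← Spec.map_comp_assoc, hψ', hψ, hh]

theorem exists_hom (hdir : Directed (· ≤ ·) S) (hcov : ∀ c : C, ∃ i, c ∈ S i)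
    [LocallyOfFiniteType f] (g : Spec (CommRingCat.of C) ⟶ X)
    (hg : g ≫ f = Spec.map (CommRingCat.ofHom (algebraMap A C))) :
    ∃ (i : ι) (g' : Spec (CommRingCat.of (S i)) ⟶ X),
      g' ≫ f = Spec.map (CommRingCat.ofHom (algebraMap A (S i))) ∧
      Spec.map (CommRingCat.ofHom (S i).val.toRingHom) ≫ g' = g := by
  classical
  let s : Set C := {r | ∃ V : X.Opens, IsAffineOpen V ∧ Set.range (Spec.map (loc r) ≫ g).base ⊆ V}
  have hs : Ideal.span s = ⊤ := by
    rw [← PrimeSpectrum.iSup_basicOpen_eq_top_iff', eq_top_iff]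
    intro x _
    obtain ⟨V, hV, hxV, -⟩ := exists_isAffineOpen_mem_and_subset
      (x := g.base x) (U := ⊤) trivial
    obtain ⟨_, ⟨r, rfl⟩, hxr, hrV⟩ := PrimeSpectrum.isTopologicalBasis_basic_opens.exists_subset_of_mem_open
      (show x ∈ g.base ⁻¹' (V : Set X) from hxV) (V.isOpen.preimage g.base.hom.continuous)
    refine TopologicalSpace.Opens.mem_iSup.2 ⟨r, TopologicalSpace.Opens.mem_iSup.2 ⟨⟨V, hV, ?_⟩, hxr⟩⟩
    rintro _ ⟨y, rfl⟩
    exact hrV ((PrimeSpectrum.localization_away_comap_range (Localization.Away r) r).subset ⟨y, rfl⟩)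
  obtain ⟨t, hts, ht⟩ := (Ideal.span_eq_top_iff_finite _).1 hs
  obtain ⟨e, -, he⟩ := Submodule.mem_span_finset.1 ((Ideal.eq_top_iff_one _).1 ht)
  obtain ⟨i, -⟩ := hcov 0
  obtain ⟨i₀, -, hi₀⟩ := exists_le S hdir hcov i (t ∪ t.image e)
  have hmem : ∀ r : t, (r : C) ∈ S i₀ := fun r => hi₀ _ (Finset.mem_union_left _ r.2)
  choose V hV hrV using fun r : t => hts r.2
  choose j hj a haf hag using fun r : t =>
    exists_local S f hdir hcov g hg i₀ (hmem r) (V r) (hV r) (hrV r)
  haveI : Nonempty ι := ⟨i⟩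
  obtain ⟨i₁, hi₁⟩ := hdir.finset_le (insert i₀ (Finset.univ.image j))
  have h₀₁ : S i₀ ≤ S i₁ := hi₁ _ (Finset.mem_insert_self _ _)
  have h₁ : ∀ r, S (j r) ≤ S i₁ := fun r => hi₁ _ (Finset.mem_insert_of_mem (by simp))
  let m (r : t) : S i₁ := ⟨r, h₁ r (hj r (hmem r))⟩
  let a₁ (r : t) : Spec (CommRingCat.of (Localization.Away (m r))) ⟶ X :=
    Spec.map (T (h₁ r) (hj r (hmem r))) ≫ a r
  have ha₁f : ∀ r, a₁ r ≫ f = Spec.map (CommRingCat.ofHom (algebraMap A (S i₁)) ≫ loc (m r)) := fun r => by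
    rw [Category.assoc, haf, ← Spec.map_comp, Category.assoc, loc_T]
    rfl
  have ha₁g : ∀ r, Spec.map (L (S i₁) (m r).2) ≫ a₁ r = Spec.map (loc (r : C)) ≫ g := fun r => by
    rw [← Spec.map_comp_assoc, T_L, hag]
  have heq : ∀ p : t × t, ∃ k : {k // S i₁ ≤ S k},
      Spec.map (T k.2 (m p.1 * m p.2).2) ≫ Spec.map (U (dvd_mul_right (m p.1) (m p.2))) ≫ a₁ p.1 =
      Spec.map (T k.2 (m p.1 * m p.2).2) ≫ Spec.map (U (dvd_mul_left (m p.2) (m p.1))) ≫ a₁ p.2 := by
    intro p
    let r₁ : C := p.1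
    let r₂ : C := p.2
    refine equalize f (L (S i₁) (m p.1 * m p.2).2) _ _ ?_ ?_ _
      (fun k : {k // S i₁ ≤ S k} => T k.2 (m p.1 * m p.2).2)
      (fun k => L (S k.1) (k.2 (m p.1 * m p.2).2)) (fun k => T_L _ _) (fun k => L_injective _ _) ?_
    · simp only [Category.assoc]
      have h₁' := ha₁f p.1
      have h₂' := ha₁f p.2
      simp only [a₁, Category.assoc] at h₁' h₂' ⊢
      rw [h₁', h₂', ← Spec.map_comp, ← Spec.map_comp, Category.assoc, Category.assoc, loc_U, loc_U]
    · have key : ∀ q : t, ∀ h : m q ∣ m p.1 * m p.2, ∀ h' : (q : C) ∣ r₁ * r₂,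
          Spec.map (L (S i₁) (m p.1 * m p.2).2) ≫ Spec.map (U h) ≫ a₁ q =
            Spec.map (loc (r₁ * r₂)) ≫ g := by
        intro q h h'
        have : U h ≫ L (S i₁) (m p.1 * m p.2).2 = L (S i₁) (m q).2 ≫ U h' := by
          refine hom_ext_away ?_
          rw [← Category.assoc, loc_U, loc_L, ← Category.assoc, loc_L, Category.assoc, loc_U]
        rw [← Spec.map_comp_assoc, this, Spec.map_comp_assoc, ha₁g, ← Spec.map_comp_assoc, loc_U]
      exact (key _ _ (dvd_mul_right _ _)).trans (key _ _ (dvd_mul_left _ _)).symm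
    · intro s
      obtain ⟨k, hk, h⟩ := exists_range_L S hdir hcov i₁ (m p.1 * m p.2).2 s
      exact ⟨⟨k, hk⟩, h⟩
  choose k hk using heq
  obtain ⟨i₂, hi₂⟩ := hdir.finset_le (insert i₁ (Finset.univ.image fun p => (k p).1))
  have h₁₂ : S i₁ ≤ S i₂ := hi₂ _ (Finset.mem_insert_self _ _)
  have h₂ : ∀ p, S (k p).1 ≤ S i₂ := fun p => hi₂ _ (Finset.mem_insert_of_mem (by simp))
  let n (r : t) : S i₂ := ⟨r, h₁₂ (m r).2⟩
  let a₂ (r : t) : Spec (CommRingCat.of (Localization.Away (n r))) ⟶ X := Spec.map (T h₁₂ (m r).2) ≫ a₁ r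
  have hcompat : ∀ p q : t, Spec.map (U (dvd_mul_right (n p) (n q))) ≫ a₂ p =
      Spec.map (U (dvd_mul_left (n q) (n p))) ≫ a₂ q := by
    intro p q
    have key : ∀ r : t, ∀ h : n r ∣ n p * n q, ∀ h' : m r ∣ m p * m q,
        Spec.map (U h) ≫ a₂ r = Spec.map (T (h₂ (p, q)) ((k (p, q)).2 (m p * m q).2)) ≫
          Spec.map (T (k (p, q)).2 (m p * m q).2) ≫ Spec.map (U h') ≫ a₁ r := by
      intro r h h'
      simp only [a₂, ← Spec.map_comp_assoc]
      congr 2
      refine hom_ext_away ?_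
      have h3 : ∀ {r : C} (hr : r ∈ S i₁), T (k (p, q)).2 hr ≫ T (h₂ (p, q)) _ = T h₁₂ hr := fun hr =>
        hom_ext_away (by
          rw [← Category.assoc, loc_T, Category.assoc, loc_T, loc_T, ← Category.assoc]
          rfl)
      simp only [Category.assoc]
      rw [h3, ← Category.assoc, loc_T, Category.assoc, loc_U, ← Category.assoc, loc_U, loc_T]
    rw [key p _ (dvd_mul_right _ _), key q _ (dvd_mul_left _ _), hk (p, q)]
  have hn : Ideal.span (Set.range n) = ⊤ := by
    rw [Ideal.eq_top_iff_one]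
    have hes : ∀ r : t, e r ∈ S i₂ := fun r =>
      h₁₂ (h₀₁ (hi₀ _ (Finset.mem_union_right _ (Finset.mem_image_of_mem e r.2))))
    have h : (1 : S i₂) = ∑ r : t, ⟨e r, hes r⟩ * n r := by
      apply Subtype.ext
      rw [OneMemClass.coe_one, AddSubmonoidClass.coe_finsetSum]
      simp only [MulMemClass.coe_mul, n]
      rw [Finset.sum_coe_sort t (fun x => e x * x), ← he]
      simp only [smul_eq_mul]
    rw [h]
    exact Ideal.sum_mem _ fun r _ => Ideal.mul_mem_left _ _ (Ideal.subset_span ⟨r, rfl⟩)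
  let 𝒰 := (Scheme.affineOpenCoverOfSpanRangeEqTop (R := CommRingCat.of (S i₂)) n hn).openCover
  let g' : Spec (CommRingCat.of (S i₂)) ⟶ X := 𝒰.glueMorphisms a₂ fun p q => by
    change pullback.fst (Spec.map (loc (n p))) (Spec.map (loc (n q))) ≫ a₂ p =
      pullback.snd (Spec.map (loc (n p))) (Spec.map (loc (n q))) ≫ a₂ q
    have hP := (isPullback_U (n p) (n q)).flip
    rw [← cancel_epi hP.isoPullback.hom, hP.isoPullback_hom_fst_assoc, hP.isoPullback_hom_snd_assoc]
    exact hcompat p q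
  have hι : ∀ r, Spec.map (loc (n r)) ≫ g' = a₂ r := fun r => 𝒰.ι_glueMorphisms _ _ r
  refine ⟨i₂, g', ?_, ?_⟩
  · refine 𝒰.hom_ext _ _ fun r => ?_
    change Spec.map (loc (n r)) ≫ g' ≫ f = Spec.map (loc (n r)) ≫ _
    rw [reassoc_of% (hι r), Category.assoc, ha₁f, ← Spec.map_comp, ← Spec.map_comp, Category.assoc,
      loc_T]
    rfl
  · let 𝒱 := (Scheme.affineOpenCoverOfSpanRangeEqTop (R := CommRingCat.of C) (fun r : t => (r : C))
      (by simpa using ht)).openCover
    refine 𝒱.hom_ext _ _ fun (r : t) => ?_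
    change Spec.map (loc (r : C)) ≫ _ ≫ g' = Spec.map (loc (r : C)) ≫ g
    rw [← Spec.map_comp_assoc, ← loc_L (S i₂) (n r).2, Spec.map_comp_assoc, hι, ← Spec.map_comp_assoc,
      T_L, ha₁g]

end Groth.Agent.SubalgLim
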